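import Groth.Agent.Obs15.AdicLift
import Groth.Agent.Obs15.SmoothAlg
import Groth.Agent.S11778
import Groth.Agent.AmpleVan.Pull
import Groth.Agent.AmpleX.Rel
import Groth.Agent.H28.PnFlat

/-!
Smooth projective lifts of polarized smooth proper schemes.
-/

universe u

open CategoryTheory CategoryTheory.Limits AlgebraicGeometry

set_option backward.isDefEq.respectTransparency false
set_option backward.isDefEq.respectTransparency.types false
set_option linter.style.haveILetI false
set_option maxHeartbeats 1000000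

noncomputable section

namespace Groth.Agent.Obs15

open Groth.Agent

/-- A polarized smooth proper scheme with unobstructed deformations lifts to a smooth projective scheme. -/
theorem exists_smooth_projective_lift (A : Type u) [CommRing A]
    [IsLocalRing A] [IsNoetherianRing A] [IsAdicComplete (IsLocalRing.maximalIdeal A) A]
    (X₀ : Scheme.{u}) [X₀.Over (Spec (CommRingCat.of (IsLocalRing.ResidueField A)))]
    [Smooth (X₀ ↘ Spec (CommRingCat.of (IsLocalRing.ResidueField A)))]
    [IsProper (X₀ ↘ Spec (CommRingCat.of (IsLocalRing.ResidueField A)))]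
    (hL : ∃ L : X₀.Modules, CohB1.IsAmple L) [HasExt.{u} X₀.Modules]
    (hT : Subsingleton (Abelian.Ext.{u} (Omega.sheaf (X₀ ↘ Spec (CommRingCat.of (IsLocalRing.ResidueField A)))) (Coh.structureModule X₀) 2))
    (hO : Subsingleton (Coh.HH X₀ (Coh.structureModule X₀) 2)) :
    ∃ (X : Scheme.{u}) (f : X ⟶ Spec (CommRingCat.of A)) (i : X₀ ⟶ X), Smooth f ∧ IsProper f ∧
      (∃ (m : ℕ) (j : X ⟶ CohB1.ProjSpace m A), IsClosedImmersion j ∧ j ≫ CohB1.ProjSpace.toSpec m A = f) ∧
      IsPullback i (X₀ ↘ Spec (CommRingCat.of (IsLocalRing.ResidueField A))) f (Spec.map (CommRingCat.ofHom (IsLocalRing.residue A))) := by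
  let m := IsLocalRing.maximalIdeal A
  let k := IsLocalRing.ResidueField A
  let x₀ := X₀ ↘ Spec (CommRingCat.of k)
  haveI : IsProper (DefTan29.xk k X₀) := ‹IsProper (X₀ ↘ Spec (CommRingCat.of k))›
  haveI : Smooth (DefTan29.xk k X₀) := ‹Smooth (X₀ ↘ Spec (CommRingCat.of k))›
  have hres : Function.Surjective (algebraMap A k) := IsLocalRing.residue_surjective
  obtain ⟨Xs, fs, ts, hsp, hcart, e, he⟩ := Obs15.exists_adic_lift A hres X₀ hT
  haveI hp : IsProper (fs 0) := (hsp 0).2
  haveI : (Xs 0).IsSeparated := ⟨by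
    rw [show Limits.terminal.from (Xs 0) = fs 0 ≫ Limits.terminal.from _ from Limits.terminal.hom_ext _ _]
    infer_instance⟩
  haveI : CompactSpace (Xs 0) := QuasiCompact.compactSpace_of_compactSpace (fs 0)
  have hO' : Subsingleton (Coh.HH (Xs 0) (Coh.structureModule (Xs 0)) 2) :=
    QCoh.subsingleton_HH_of_iso (H23.PicMul.cl_eq_iff.1 (H23.PicMul.pullCl_one e.hom)).some 2
      (H28.PnFlat.subsingleton_HH_pullback_of_iso e (Coh.structureModule X₀) 1 hO)
  obtain ⟨L₀, hL₀⟩ := hL
  have hamp : CohB1.IsAmple ((Scheme.Modules.pullback e.hom).obj L₀) :=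
    AmpleVan.isAmple_pullback_of_isEmbedding _ e.hom.isEmbedding hL₀
  obtain ⟨L, hL, ⟨θ⟩, hLs⟩ := S11778.result A Xs fs ts hcart (fun n => haveI := (hsp n).1; inferInstance) hO' _ hamp.1
  let S : AmpleVan.AdicSys A m := ⟨Xs, fs, ts, hcart⟩
  obtain ⟨N, n, -, r, hr, hrw, hri, -⟩ := PicLift.exists_embedding S hp L hL hLs (AmpleX.isAmple_of_iso θ.symm hamp)
  let P := CohB1.ProjSpace N A
  letI : P.Over (Spec (CommRingCat.of A)) := ⟨CohB1.ProjSpace.toSpec N A⟩
  haveI : IsProper (P ↘ Spec (CommRingCat.of A)) := PnCoh.Chow.isProper_toSpec N A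
  haveI := hr
  obtain ⟨Y, ι, w, hι, hwi, hwr, hsq⟩ := PicLift.exists_closedAlg m P Xs ts r fs hrw hri (fun k' => by
    have h := AmpleVan.AdicSys.square_i S k'
    rw [AmpleVan.AdicSys.str_eq, ← hrw] at h
    exact h)
  haveI := hι
  haveI : IsProper (ι ≫ CohB1.ProjSpace.toSpec N A) := inferInstanceAs (IsProper (ι ≫ (P ↘ Spec (CommRingCat.of A))))
  refine ⟨Y, ι ≫ CohB1.ProjSpace.toSpec N A, e.inv ≫ w 0, Obs15.smooth_of_levels A _ fs w hsq (fun n => (hsp n).1),
    inferInstance, ⟨N, ι, hι, rfl⟩, ?_⟩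
  have hσ : ArtFun.Art.specRes (Obs15.lvl A hres 0) ≫ CohB1.specQuot m 0 =
      Spec.map (CommRingCat.ofHom (IsLocalRing.residue A)) := by
    show Spec.map _ ≫ Spec.map _ = _
    rw [← Spec.map_comp]
    rfl
  haveI := Obs15.isIso_specRes_zero A hres
  refine (hsq 0).of_iso e (Iso.refl _) (asIso (ArtFun.Art.specRes (Obs15.lvl A hres 0))).symm (Iso.refl _) ?_ ?_ ?_ ?_
  · simp
  · simp only [asIso, Iso.symm_hom]
    rw [← he]; simp
    rfl
  · simp
    rfl
  · simp [← hσ]

end Groth.Agent.Obs15
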